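import Mathlib

/-!
# The automorphism group of a normal algebraic extension is compact
-/

set_option autoImplicit false

open scoped Topology

namespace Groth.Agent.GalField

/-- For a normal extension, separable or not, the Krull topology on the automorphism group is
compact. -/
theorem compactSpace_gal (K L : Type*) [Field K] [Field L] [Algebra K L] [Normal K L] :
    CompactSpace (L ≃ₐ[K] L) := by
  refine ⟨isCompact_iff_ultrafilter_le_nhds.2 fun u _ => ?_⟩
  have hy : ∀ x : L, ∃ y : L, ∀ᶠ σ in (u : Filter (L ≃ₐ[K] L)), σ x = y := by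
    intro x
    have hsub : ∀ σ : L ≃ₐ[K] L, σ x ∈ (minpoly K x).rootSet L := fun σ => by
      rw [Polynomial.mem_rootSet]
      refine ⟨minpoly.ne_zero (Algebra.IsIntegral.isIntegral x), ?_⟩
      rw [Polynomial.aeval_algHom_apply, minpoly.aeval, map_zero]
    obtain ⟨y, -, hy⟩ := (u.map fun σ : L ≃ₐ[K] L => σ x).eq_pure_of_finite_mem
      ((minpoly K x).rootSet_finite L) (Ultrafilter.mem_map.2 (Filter.univ_mem' hsub))
    refine ⟨y, ?_⟩
    have : {y} ∈ (u.map fun σ : L ≃ₐ[K] L => σ x) := by rw [hy]; exact Set.mem_singleton y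
    exact this
  choose g hg using hy
  let g' : L →ₐ[K] L :=
    { toFun := g
      map_one' := by
        obtain ⟨σ, hσ⟩ := (hg 1).exists
        rw [← hσ, map_one]
      map_mul' := fun a b => by
        obtain ⟨σ, hab, ha, hb⟩ := ((hg (a * b)).and ((hg a).and (hg b))).exists
        rw [← hab, ← ha, ← hb, map_mul]
      map_zero' := by
        obtain ⟨σ, hσ⟩ := (hg 0).exists
        rw [← hσ, map_zero]
      map_add' := fun a b => by
        obtain ⟨σ, hab, ha, hb⟩ := ((hg (a + b)).and ((hg a).and (hg b))).exists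
        rw [← hab, ← ha, ← hb, map_add]
      commutes' := fun r => by
        obtain ⟨σ, hσ⟩ := (hg (algebraMap K L r)).exists
        rw [← hσ, AlgEquiv.commutes] }
  let e : L ≃ₐ[K] L := AlgEquiv.ofBijective g' (Algebra.IsAlgebraic.algHom_bijective g')
  refine ⟨e, Set.mem_univ _, fun s hs => ?_⟩
  have h1 : (e * ·) ⁻¹' s ∈ 𝓝 (1 : L ≃ₐ[K] L) :=
    (continuous_const_mul e).continuousAt.preimage_mem_nhds (by rwa [mul_one])
  obtain ⟨E, hE, hsub⟩ := (krullTopology_mem_nhds_one_iff K L _).1 h1
  obtain ⟨T, hT⟩ := IntermediateField.essFiniteType_iff.1 (inferInstance : Algebra.EssFiniteType K E)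
  have hev : ∀ᶠ σ in (u : Filter (L ≃ₐ[K] L)), ∀ x ∈ T, σ x = g x :=
    T.eventually_all.2 fun x _ => hg x
  refine Filter.mem_of_superset hev fun σ hσ => ?_
  have hmem : e⁻¹ * σ ∈ E.fixingSubgroup := by
    rw [← hT, IntermediateField.mem_fixingSubgroup_iff]
    intro y hy
    refine (IntermediateField.forall_mem_adjoin_smul_eq_self_iff K (S := (T : Set L)) (e⁻¹ * σ)).2
      (fun x hx => ?_) y hy
    show e.symm (σ x) = x
    rw [hσ x hx]
    exact e.symm_apply_apply x
  have := hsub hmem
  simpa using this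

end Groth.Agent.GalField
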