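import Mathlib
import Groth.Prelude.Def_FEt
import Groth.Agent.FEtGal.Galois
import Groth.Agent.GalField.Compact

/-!
# The fundamental group of a field
-/

set_option autoImplicit false
set_option linter.style.haveILetI false
set_option backward.isDefEq.respectTransparency false

universe u

open CategoryTheory CategoryTheory.Limits AlgebraicGeometry CategoryTheory.PreGaloisCategory

noncomputable section

namespace Groth.Agent.GalField

open Groth.Agent.FEtGal

variable (K : Type u) [Field K]

/-- Automorphisms of the algebraic closure. -/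
abbrev Gal : Type u := AlgebraicClosure K ≃ₐ[K] AlgebraicClosure K

/-- The base. -/
abbrev base : Scheme.{u} := Spec (CommRingCat.of K)

/-- The geometric point given by the algebraic closure. -/
abbrev gpt : Spec (CommRingCat.of (AlgebraicClosure K)) ⟶ base K :=
  Spec.map (CommRingCat.ofHom (algebraMap K (AlgebraicClosure K)))

instance : ConnectedSpace (base K) :=
  haveI : IrreducibleSpace (base K) := inferInstanceAs (IrreducibleSpace (PrimeSpectrum K))
  inferInstance

variable {K}

/-- An automorphism as an automorphism of the geometric point. -/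
abbrev gmap (σ : Gal K) :
    Spec (CommRingCat.of (AlgebraicClosure K)) ⟶ Spec (CommRingCat.of (AlgebraicClosure K)) :=
  Spec.map (CommRingCat.ofHom (σ : AlgebraicClosure K →+* AlgebraicClosure K))

theorem gmap_gpt (σ : Gal K) : gmap σ ≫ gpt K = gpt K := by
  rw [← Spec.map_comp, ← CommRingCat.ofHom_comp]
  congr 2
  exact RingHom.ext σ.commutes

theorem gmap_one : gmap (1 : Gal K) = 𝟙 _ := Spec.map_id _

theorem gmap_mul (σ τ : Gal K) : gmap (σ * τ) = gmap σ ≫ gmap τ := by
  rw [← Spec.map_comp, ← CommRingCat.ofHom_comp]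
  rfl

instance mulActionFibre (Y : FEt.Cat (base K)) : MulAction (Gal K) ((fibre (gpt K)).obj Y).obj where
  smul σ s := ⟨gmap σ ≫ s.1, by rw [Category.assoc, s.2, gmap_gpt]⟩
  one_smul s := Subtype.ext (show gmap 1 ≫ s.1 = s.1 by rw [gmap_one, Category.id_comp])
  mul_smul σ τ s := Subtype.ext (show gmap (σ * τ) ≫ s.1 = gmap σ ≫ gmap τ ≫ s.1 by
    rw [gmap_mul, Category.assoc])

theorem smul_val {Y : FEt.Cat (base K)} (σ : Gal K) (s : ((fibre (gpt K)).obj Y).obj) :
    (σ • s).1 = gmap σ ≫ s.1 := rfl

instance naturalSMul : IsNaturalSMul (fibre (gpt K)) (Gal K) where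
  naturality σ _ _ f s := Subtype.ext (Category.assoc (gmap σ) s.1 f.left)

theorem subsingleton_of_isConnected (Y : FEt.Cat (base K)) [PreGaloisCategory.IsConnected Y] :
    Subsingleton Y.left := by
  haveI : IsAffine Y.left := isAffine_of_isAffineHom (str Y)
  haveI : IsLocallyArtinian (base K) := inferInstance
  haveI : DiscreteTopology Y.left := by
    have hfin : (RingHom.Finite (str Y).appTop.hom) := (str Y).finite_appTop
    letI := (str Y).appTop.hom.toAlgebra
    haveI : Module.Finite Γ(base K, ⊤) Γ(Y.left, ⊤) := hfin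
    haveI : IsArtinianRing Γ(base K, ⊤) :=
      (Scheme.ΓSpecIso (CommRingCat.of K)).symm.commRingCatIsoToRingEquiv.surjective.isArtinianRing
    haveI : IsArtinianRing Γ(Y.left, ⊤) := IsArtinianRing.of_finite Γ(base K, ⊤) _
    exact (Y.left.isoSpec.hom.homeomorph).discreteTopology_iff.2
      (inferInstanceAs (DiscreteTopology (PrimeSpectrum Γ(Y.left, ⊤))))
  refine ⟨fun y z => ?_⟩
  let U : Y.left.Opens := ⟨{y}, isOpen_discrete _⟩
  haveI : IsClosedImmersion U.ι := by
    refine IsClosedImmersion.of_isPreimmersion _ ?_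
    rw [Scheme.Opens.range_ι]
    exact isClosed_discrete _
  let U' : FEt.Cat (base K) := MorphismProperty.Over.mk ⊤ (U.ι ≫ str Y)
    (FEt.prop.{u}.comp_mem _ _ ⟨inferInstance, inferInstance⟩ Y.prop)
  let i : U' ⟶ Y := MorphismProperty.Over.homMk U.ι rfl
  haveI : Mono i :=
    (MorphismProperty.Over.forget _ ⊤ _ ⋙ CategoryTheory.Over.forget _).mono_of_mono_map
      (inferInstanceAs (Mono U.ι))
  haveI : IsIso i := PreGaloisCategory.IsConnected.noTrivialComponent U' i fun h =>
    (isEmpty_of_isInitial h).false (⟨y, rfl⟩ : U)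
  haveI : IsIso U.ι := isIso_left i
  obtain ⟨w, hw⟩ := U.ι.homeomorph.surjective z
  have hz : z ∈ U := by rw [← hw]; exact w.2
  exact hz.symm

theorem pretransitive_of_isConnected (Y : FEt.Cat (base K)) [PreGaloisCategory.IsConnected Y] :
    MulAction.IsPretransitive (Gal K) ((fibre (gpt K)).obj Y).obj := by
  refine ⟨fun s t => ?_⟩
  haveI := subsingleton_of_isConnected Y
  let e := Scheme.SpecToEquivOfField (AlgebraicClosure K) Y.left
  obtain ⟨⟨y, f⟩, hs⟩ := e.symm.surjective s.1
  obtain ⟨⟨y', g⟩, ht⟩ := e.symm.surjective t.1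
  obtain rfl := Subsingleton.elim y' y
  let a : CommRingCat.of K ⟶ Y.left.residueField y' :=
    Spec.preimage (Y.left.fromSpecResidueField y' ≫ str Y)
  have key : ∀ (h : Y.left.residueField y' ⟶ CommRingCat.of (AlgebraicClosure K))
      (r : ((fibre (gpt K)).obj Y).obj), Spec.map h ≫ Y.left.fromSpecResidueField y' = r.1 →
      ∀ c : K, h (a c) = algebraMap K (AlgebraicClosure K) c := fun h r hr c => by
    have e2 : a ≫ h = CommRingCat.ofHom (algebraMap K (AlgebraicClosure K)) := by
      apply Spec.map_injective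
      rw [Spec.map_comp, Spec.map_preimage, ← Category.assoc, hr]
      exact r.2
    exact congrArg (fun φ => φ.hom c) e2
  letI : Algebra K (Y.left.residueField y') := a.hom.toAlgebra
  let f' : Y.left.residueField y' →ₐ[K] AlgebraicClosure K :=
    { f.hom with commutes' := key f s hs }
  let g' : Y.left.residueField y' →ₐ[K] AlgebraicClosure K :=
    { g.hom with commutes' := key g t ht }
  let χ : f'.fieldRange ≃ₐ[K] g'.fieldRange :=
    (AlgEquiv.ofInjectiveField f').symm.trans (AlgEquiv.ofInjectiveField g')
  refine ⟨χ.liftNormal (AlgebraicClosure K), Subtype.ext ?_⟩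
  rw [smul_val, ← hs, ← ht]
  show gmap _ ≫ Spec.map f ≫ _ = Spec.map g ≫ _
  rw [← Spec.map_comp_assoc]
  congr 2
  refine CommRingCat.hom_ext (RingHom.ext fun x => ?_)
  refine (χ.liftNormal_commutes (AlgebraicClosure K) ⟨f' x, ⟨x, rfl⟩⟩).trans ?_
  show ((AlgEquiv.ofInjectiveField g') ((AlgEquiv.ofInjectiveField f').symm _) : AlgebraicClosure K) = _
  rw [show (⟨f' x, ⟨x, rfl⟩⟩ : f'.fieldRange) = AlgEquiv.ofInjectiveField f' x from rfl,
    AlgEquiv.symm_apply_apply]
  rfl

theorem stabilizer_isOpen_fibre (Y : FEt.Cat (base K)) (s : ((fibre (gpt K)).obj Y).obj) :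
    IsOpen (MulAction.stabilizer (Gal K) s : Set (Gal K)) := by
  let e := Scheme.SpecToEquivOfField (AlgebraicClosure K) Y.left
  obtain ⟨⟨y, f⟩, hs⟩ := e.symm.surjective s.1
  haveI : Finite ((fibre (gpt K)).obj Y).obj := ((fibre (gpt K)).obj Y).property
  haveI : Finite (Gal K ⧸ MulAction.stabilizer (Gal K) s) :=
    Finite.of_equiv _ (MulAction.orbitEquivQuotientStabilizer (Gal K) s)
  haveI := Subgroup.finiteIndex_of_finite_quotient (H := MulAction.stabilizer (Gal K) s)
  refine Subgroup.isOpen_of_isClosed_of_finiteIndex _ ?_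
  have hset : (MulAction.stabilizer (Gal K) s : Set (Gal K)) =
      ⋂ x : Y.left.residueField y,
        (MulAction.stabilizer (Gal K) (f x : AlgebraicClosure K) : Set (Gal K)) := by
    ext σ
    simp only [SetLike.mem_coe, MulAction.mem_stabilizer_iff, Set.mem_iInter]
    constructor
    · intro h x
      have h1 : gmap σ ≫ Spec.map f ≫ Y.left.fromSpecResidueField y =
          Spec.map f ≫ Y.left.fromSpecResidueField y := by
        have := congrArg Subtype.val h
        rw [smul_val, ← hs] at this
        exact this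
      rw [← Spec.map_comp_assoc, cancel_mono] at h1
      exact congrArg (fun φ => φ.hom x) (Spec.map_injective h1)
    · intro h
      refine Subtype.ext ?_
      rw [smul_val, ← hs]
      show gmap σ ≫ Spec.map f ≫ _ = Spec.map f ≫ _
      rw [← Spec.map_comp_assoc]
      congr 2
      exact CommRingCat.hom_ext (RingHom.ext h)
  rw [hset]
  exact isClosed_iInter fun x =>
    Subgroup.isClosed_of_isOpen _ (stabilizer_isOpen_of_isIntegral (K := K) _)

open scoped Pointwise in
theorem eq_one_of_trivial (σ : Gal K)
    (h : ∀ (Y : FEt.Cat (base K)) (s : ((fibre (gpt K)).obj Y).obj), σ • s = s) : σ = 1 := by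
  have hsep : ∀ x ∈ separableClosure K (AlgebraicClosure K), σ x = x := by
    intro x hx
    let L := IntermediateField.adjoin K {x}
    haveI : FiniteDimensional K L :=
      IntermediateField.adjoin.finiteDimensional (Algebra.IsIntegral.isIntegral x)
    haveI : Algebra.IsSeparable K L :=
      (IntermediateField.isSeparable_adjoin_simple_iff_isSeparable _ _).2 (mem_separableClosure_iff.1 hx)
    let q : Spec (CommRingCat.of L) ⟶ base K := Spec.map (CommRingCat.ofHom (algebraMap K L))
    have hq : FEt.prop q := by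
      refine ⟨(IsFinite.SpecMap_iff _).2 (RingHom.finite_algebraMap.2 inferInstance),
        (HasRingHomProperty.Spec_iff (P := @Etale)).2 (RingHom.etale_algebraMap.2 ?_)⟩
      haveI := Algebra.FormallyEtale.of_isSeparable K L
      exact ⟨inferInstance, Algebra.FinitePresentation.of_finiteType.1 inferInstance⟩
    let Y : FEt.Cat (base K) := MorphismProperty.Over.mk ⊤ q hq
    let v : CommRingCat.of L ⟶ CommRingCat.of (AlgebraicClosure K) :=
      CommRingCat.ofHom (algebraMap L (AlgebraicClosure K))
    let s : ((fibre (gpt K)).obj Y).obj := ⟨Spec.map v, by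
      show Spec.map v ≫ Spec.map _ = _
      rw [← Spec.map_comp]; rfl⟩
    have := congrArg Subtype.val (h Y s)
    rw [smul_val] at this
    change gmap σ ≫ Spec.map v = Spec.map v at this
    rw [← Spec.map_comp] at this
    exact congrArg (fun φ => φ.hom ⟨x, IntermediateField.mem_adjoin_simple_self K x⟩)
      (Spec.map_injective this)
  refine AlgEquiv.ext fun x => ?_
  have e : (σ : AlgebraicClosure K →+* AlgebraicClosure K) = RingHom.id _ :=
    IsPurelyInseparable.injective_comp_algebraMap (separableClosure K (AlgebraicClosure K))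
      (AlgebraicClosure K) (AlgebraicClosure K) (RingHom.ext fun z => hsep z.1 z.2)
  exact congrArg (fun φ : AlgebraicClosure K →+* AlgebraicClosure K => φ x) e

instance : CompactSpace (Gal K) := compactSpace_gal K (AlgebraicClosure K)

/-- The absolute Galois group is the fundamental group. -/
theorem galMulEquivHomeo : ∃ e : Gal K ≃* Aut (fibre (gpt K)), IsHomeomorph e := by
  haveI := galoisCategory (gpt K)
  haveI := fiberFunctor (gpt K)
  haveI : IsFundamentalGroup (fibre (gpt K)) (Gal K) :=
    { transitive_of_isGalois := fun Y _ => pretransitive_of_isConnected Y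
      continuous_smul := fun Y => continuousSMul_iff_stabilizer_isOpen.2 (stabilizer_isOpen_fibre Y)
      non_trivial' := eq_one_of_trivial }
  exact ⟨toAutMulEquiv (fibre (gpt K)) (Gal K), toAutMulEquiv_isHomeomorph _ _⟩

theorem nonempty_mulEquiv_piOne :
    Nonempty (Gal K ≃* FEt.piOne (base K) (gpt K)) := by
  obtain ⟨e, -⟩ := galMulEquivHomeo (K := K)
  let hff : (FintypeCat.incl.{u}).FullyFaithful := Functor.FullyFaithful.ofFullyFaithful _
  exact ⟨e.trans (((hff.whiskeringRight (FEt.Cat (base K))).autMulEquivOfFullyFaithful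
    (fibre (gpt K))).trans (fibreIncl (gpt K)).conjAut)⟩

open scoped FintypeCatDiscrete in
theorem nonempty_equivalence_contAction :
    Nonempty (FEt.Cat (base K) ≌ ContAction FintypeCat.{u} (Gal K)) := by
  haveI := galoisCategory (gpt K)
  haveI := fiberFunctor (gpt K)
  obtain ⟨e, he⟩ := galMulEquivHomeo (K := K)
  let e' : Gal K ≃ₜ* Aut (fibre (gpt K)) :=
    { e with
      continuous_toFun := he.continuous
      continuous_invFun := Continuous.continuous_symm_of_equiv_compact_to_t2 (f := e.toEquiv) he.continuous }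
  exact ⟨(functorToContAction (fibre (gpt K))).asEquivalence.trans
    (ContAction.resEquiv FintypeCat.{u} e')⟩

end Groth.Agent.GalField
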